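import Cfsg.Agent.Lib.DCE.Ly.Out.Expl
import Cfsg.Agent.Lib.DCE.Ly.Out.Dat
import Cfsg.Agent.Lib.FusionSimple2.Codes

/-! Data on a Sylow `2`-subgroup of the alternating group of degree `11`. -/

set_option autoImplicit false
set_option maxRecDepth 100000
set_option maxHeartbeats 4000000

namespace Cfsg.Agent.Lib.DCE.Ly.Fus.Data

open _root_.Cfsg.Agent.Lib.PermComp
open _root_.Cfsg.Agent.Lib.PermComp.Core
open Cfsg.Agent.Lib.FusionSimple2.Codes
open Cfsg.Agent.Lib.DCE.Ly.Out.Expl (pp)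
open Cfsg.Agent.Lib.DCE.Ly.Out.Dat (wT)

local notation "RR" => Rep 4 15 (Equiv.refl (Fin 11))
local notation "HH" => H 4 15 (Equiv.refl (Fin 11))
local notation "QQ" => Equiv.Perm (Fin 11)

/-- The code of the identity. -/
def idc : Nat := 0xa9876543210

/-- The codes of the generators. -/
def ppT : List Nat := [0xa9876543021,0xa9876542301,0xa9876534201,0xa9876453201,0xa9875643201,0xa9867543201,0xa9786543201,0xa8976543201,0x9a876543201]

/-- The code of a generator. -/
def ppc (j : Nat) : Nat := ppT.getD j 0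

/-- The central involution. -/
def cz : Nat := 0xa0416283579

/-- The transposition. -/
def c36 : Nat := 0xa9873546210

/-- The generators. -/
def sgens : List Nat := [0xa4056793128,0xa1803246597,0xa1506823497,0xa1406283597,0xa9213456870,0xa0273456819,0xa9413286570]

/-- The generators as conjugates. -/
def conjW : List (Nat × List Nat) := [(0xa4056793128,[6,0,1,2,1,0,3]),(0xa1803246597,[5,6,5,3,4,3,2]),(0xa1506823497,[3]),(0xa1406283597,[1,2,3,2,1]),(0xa9213456870,[7,5,6,5,3,2,0,1]),(0xa0273456819,[5,3,1,0,2,1]),(0xa9413286570,[6,7,6,5,0,1,0])]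

/-- The elements. -/
def L0 : List Nat := [0xa9876543210,0xa9413286570,0xa0273456819,0xa0516823479,0xa9213456870,0xa9576823410,0xa0816543279,0xa0473286519,0xa1406283597,0xa1893546207,0xa7503826491,0xa7296453801,0xa1593826407,0xa1206453897,0xa7496283501,0xa7803546291,0xa1506823497,0xa1293456807,0xa7403286591,0xa7896543201,0xa1493286507,0xa1806543297,0xa7596823401,0xa7203456891,0xa9276453810,0xa9513826470,0xa0873546219,0xa0416283579,0xa9813546270,0xa9476283510,0xa0216453879,0xa0573826419,0xa1803246597,0xa1496583207,0xa7506423891,0xa7293856401,0xa1596423807,0xa1203856497,0xa7893246501,0xa7406583291,0xa9473586210,0xa9816243570,0xa0276853419,0xa0513426879,0xa9216853470,0xa9573426810,0xa0413586279,0xa0876243519,0xa9273856410,0xa9516423870,0xa0476583219,0xa0813246579,0xa9416583270,0xa9873246510,0xa0213856479,0xa0576423819,0xa1503426897,0xa1296853407,0xa7806243591,0xa7493586201,0xa1896243507,0xa1403586297,0xa7593426801,0xa7206853491,0xa4056793128,0xa49231067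58,0xa8153976024,0xa8726013954,0xa4123976058,0xa4756013928,0xa8026793154,0xa8953106724,0xa2986103745,0xa2043796185,0xa5783016942,0xa5146973082,0xa2743016985,0xa2186973045,0xa5946103782,0xa5083796142,0xa2786013945,0xa2143976085,0xa5983106742,0xa5046793182,0xa2943106785,0xa2086793145,0xa5746013982,0xa5183976042,0xa4156973028,0xa4723016958,0xa8053796124,0xa8926103754,0xa4023796158,0xa4956103728,0xa8126973054,0xa8753016924,0xa2083196745,0xa2946703185,0xa5786913042,0xa5143076982,0xa2746913085,0xa2183076945,0xa5043196782,0xa5986703142,0xa4953706128,0xa4026193758,0xa8156073924,0xa8723916054,0xa4126073958,0xa4753916028,0xa8923706154,0xa8056193724,0xa4153076928,0xa4726913058,0xa8956703124,0xa8023196754,0xa4926703158,0xa4053196728,0xa8123076954,0xa8756913024,0xa2783916045,0xa2146073985,0xa5086193742,0xa5943706182,0xa2046193785,0xa2983706145,0xa5743916082,0xa5186073942]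

/-- The word of a conjugating element. -/
def W3 : List Nat := [1,2,3,2,1]

/-- The word of a conjugating element in the letters of the table. -/
def W3e : List Nat := [1,5,6,5,1]

/-- The word of the inverse of a conjugating element in the letters of the table. -/
def W3ie : List Nat := [1,1,1,5,5,5,6,6,6,5,5,5,1,1,1]

/-- The word of the second involution in the letters of the table. -/
def wTe : List Nat := [0,1,5,0,6,5,1,7,6,8,7,9,8,10,9,5,6,7,8,5,6,7,0,6,1,0,5,1,0,6]

/-- The code of a word. -/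
noncomputable def wc (l : List Nat) : Nat :=
  List.rec idc (fun j _ ih => comp 11 4 15 (ppc j) ih) l

theorem hm4 : (15 : Nat) = 2 ^ 4 - 1 := by norm_num

theorem hid4' : ∀ i : Fin 11, app 4 15 idc i = i := by decide +kernel

theorem hid4 : ∀ i, i < 11 → app 4 15 idc i = i := fun i hi => hid4' ⟨i, hi⟩

theorem ppc_rep' : ∀ j : Fin 9, ∀ a : Fin 11, app 4 15 (ppc j) a = pp j a := by decide +kernel

theorem ppc_rep (j : Nat) (hj : j < 9) : RR (ppc j) (pp j) := fun a => ppc_rep' ⟨j, hj⟩ a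

/-- The product of a word. -/
def pw (l : List Nat) : QQ := (l.map pp).prod

theorem wc_rep (l : List Nat) (hl : ∀ j ∈ l, j < 9) : RR (wc l) (pw l) := by
  induction l with
  | nil => exact rep_one hid4
  | cons j l ih =>
    have h1 := ih (fun z hz => hl z (List.mem_cons_of_mem _ hz))
    have h2 := ppc_rep j (hl j List.mem_cons_self)
    have h3 := h2.comp hm4 h1
    have e : pw (j :: l) = pp j * pw l := by simp [pw]
    rw [e]
    exact h3

/-- The second involution. -/
def Pz : QQ := pw wT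

/-- The table of the second involution. -/
def PzT : Fin 11 → Fin 11 := ![9, 7, 5, 3, 8, 2, 6, 1, 4, 0, 10]

theorem Pz_eq : ∀ i, Pz i = PzT i := by decide +kernel

theorem wT_lt : ∀ j ∈ wT, j < 9 := by decide +kernel

theorem chk_wT : wc wT = cz := by decide +kernel

theorem Pz_rep : RR cz Pz := by
  rw [← chk_wT]
  exact wc_rep wT wT_lt

/-- The code of a conjugate. -/
noncomputable def cjc (l : List Nat) (a : Nat) : Nat :=
  comp 11 4 15 (comp 11 4 15 (wc l) a) (Core.inv 11 4 15 (wc l))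

/-- A valid word. -/
noncomputable def wOK (l : List Nat) : Bool :=
  ifB (allL (fun a => Nat.blt a 9) l) (Nat.beq (comp 11 4 15 (Core.inv 11 4 15 (wc l)) (wc l)) idc)

theorem cj_rep {l : List Nat} (hw : wOK l = true) {a : Nat} {A : QQ} (hA : RR a A) :
    (∀ j ∈ l, j < 9) ∧ RR (cjc l a) (pw l * A * (pw l)⁻¹) := by
  simp only [wOK, ifB_eq_true, allL_eq_true] at hw
  obtain ⟨h1, h2⟩ := hw
  have h1' : ∀ j ∈ l, j < 9 := fun j hj => by simpa using h1 j hj
  have hr := wc_rep l h1'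
  have hinv : RR (Core.inv 11 4 15 (wc l)) (pw l)⁻¹ := Rep.inv hm4 hid4 hr (Nat.eq_of_beq_eq_true h2)
  exact ⟨h1', (hr.comp hm4 hA).comp hm4 hinv⟩

/-- The points. -/
noncomputable def rng : List Nat := List.range 11

theorem mem_rng {x : Nat} : x ∈ rng ↔ x < 11 := List.mem_range

/-- Kernel friendly `Nodup`. -/
noncomputable def nodupN : List Nat → Bool :=
  fun l => List.rec true (fun a t ih => ifB (!(memN a t)) ih) l

theorem nodupN_spec {l : List Nat} (h : nodupN l = true) : l.Nodup := by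
  induction l with
  | nil => exact List.nodup_nil
  | cons a t ih =>
    have h' : ifB (!(memN a t)) (nodupN t) = true := h
    rw [ifB_eq_true] at h'
    refine List.nodup_cons.2 ⟨?_, ih h'.2⟩
    intro hm
    rw [← memN_eq_true] at hm
    rw [hm] at h'
    exact Bool.noConfusion h'.1

theorem chk_sg : sgens = conjW.map Prod.fst := by decide +kernel

theorem chk_conj : allL (fun e => ifB (wOK e.2) (Nat.beq (cjc e.2 cz) e.1)) conjW = true := by
  decide +kernel

theorem chk_L0 : eqL L0 (prodL 11 4 15 idc sgens) = true := by decide +kernel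

theorem chk_clos : closOK 11 4 15 L0 sgens = true := by decide +kernel

/-- The key points. -/
def kpts : List Nat := [0, 1, 2, 3, 4, 5, 6, 7, 8, 9, 10]

theorem chk_key : nodupN (L0.map (keyOf 4 15 kpts)) = true := by decide +kernel

theorem chk_cent : centOK 4 15 idc cz sgens rng L0 = true := by decide +kernel

theorem chk_lt : allL (fun c => Nat.blt c (2 ^ 44)) L0 = true := by decide +kernel

theorem chk_comm : allL (fun a => Nat.beq (comp 11 4 15 a cz) (comp 11 4 15 cz a)) sgens = true := by decide +kernel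

theorem sgens_conj {a : Nat} (ha : a ∈ sgens) :
    ∃ l : List Nat, (∀ j ∈ l, j < 9) ∧ RR a (pw l * Pz * (pw l)⁻¹) := by
  rw [chk_sg] at ha
  obtain ⟨e, he, rfl⟩ := List.mem_map.1 ha
  have h := (ifB_eq_true _ _).1 ((allL_eq_true _ _).1 chk_conj e he)
  obtain ⟨h1, hr⟩ := cj_rep h.1 Pz_rep
  rw [Nat.eq_of_beq_eq_true h.2] at hr
  exact ⟨e.2, h1, hr⟩

theorem sgens_rep : ∀ a ∈ sgens, ∃ g, RR a g := by
  intro a ha
  obtain ⟨l, -, hr⟩ := sgens_conj ha
  exact ⟨_, hr⟩

/-- The Sylow subgroup. -/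
noncomputable def Sb : Subgroup QQ := HH sgens

theorem L0_eq : L0 = prodL 11 4 15 idc sgens := eqL_spec _ _ chk_L0

theorem L1 : ∀ c ∈ L0, ∃ g ∈ Sb, RR c g := by
  rw [L0_eq]
  exact rep_prodL hm4 hid4 sgens_rep

theorem idc_L0 : idc ∈ L0 := by
  rw [L0_eq]
  have : ∀ gens : List Nat, idc ∈ prodL 11 4 15 idc gens := by
    intro gens
    induction gens with
    | nil => simp [prodL]
    | cons a as ih =>
      rw [prodL, dbl]
      exact List.mem_append_left _ ih
  exact this _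

theorem L2 : ∀ g ∈ Sb, ∃ c ∈ L0, RR c g := exists_code hm4 hid4 idc_L0 chk_clos

theorem kpts_lt : ∀ p ∈ kpts, p < 11 := by decide +kernel

theorem card_Sb : Nat.card Sb = 2 ^ 7 := by
  rw [Sb, card_H_of_codes L1 L2 kpts_lt (nodupN_spec chk_key)]
  decide +kernel

theorem gens_Sb : ∀ a ∈ sgens, ∃ A, A ∈ HH sgens ∧ RR a A := by
  intro a ha
  obtain ⟨g, hr⟩ := sgens_rep a ha
  exact ⟨g, H_of_rep ha hr, hr⟩

/-- The elements of the subgroup commuting with everything. -/
theorem Z_S {g : QQ} (hg : g ∈ Sb) (hc : ∀ A ∈ Sb, g * A = A * g) : g = 1 ∨ g = Pz := by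
  obtain ⟨c, hcL, hr⟩ := L2 g hg
  have h1 := (allL_eq_true _ _).1 chk_cent c hcL
  rw [orC_eq_true, orC_eq_true] at h1
  rcases h1 with h1 | h1 | h1
  · left
    exact hr.eq_one hid4 (Nat.eq_of_beq_eq_true h1)
  · right
    rw [Nat.eq_of_beq_eq_true h1] at hr
    exact hr.unique Pz_rep
  · exfalso
    obtain ⟨A, hA, hne⟩ := not_comm_of_ncOK (fun p hp => mem_rng.1 hp) hr gens_Sb h1
    exact hne (hc A hA)

/-- The second involution commutes with the subgroup. -/
theorem Pz_comm : ∀ A ∈ Sb, Pz * A = A * Pz := by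
  have h : Sb ≤ Subgroup.centralizer ({Pz} : Set QQ) := by
    apply (Subgroup.closure_le _).2
    rintro g ⟨c, hc, hg⟩
    have h1 := Nat.eq_of_beq_eq_true ((allL_eq_true _ _).1 chk_comm c hc)
    have h2 := hg.comp hm4 Pz_rep
    have h3 := Pz_rep.comp hm4 hg
    rw [h1] at h2
    have h4 := h2.unique h3
    show g ∈ Subgroup.centralizer ({Pz} : Set QQ)
    rw [Subgroup.mem_centralizer_iff]
    intro y hy
    rw [Set.mem_singleton_iff] at hy
    rw [hy]
    exact h4.symm
  intro A hA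
  have h1 := h hA
  rw [Subgroup.mem_centralizer_iff] at h1
  exact h1 Pz rfl

theorem Pz_mem : Pz ∈ Sb := by
  have h1 : cz ∈ L0 := by decide +kernel
  obtain ⟨g, hg, hr⟩ := L1 cz h1
  rw [hr.unique Pz_rep] at hg
  exact hg

theorem Pz_ne : Pz ≠ 1 := by
  intro h
  have h1 := Pz_eq 0
  rw [h] at h1
  exact absurd h1 (by decide)

/-- The value of the central involution. -/
def Pn (u : Nat) : Nat := app 4 15 cz u

/-- A code with given digits. -/
def dig (d0 d1 d2 d3 d4 d5 d6 d7 d8 d9 d10 : Nat) : Nat :=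
  d0 + 16 * (d1 + 16 * (d2 + 16 * (d3 + 16 * (d4 + 16 * (d5 + 16 * (d6 + 16 * (d7 + 16 * (d8 + 16 * (d9 + 16 * d10)))))))))

/-- A code with given images. -/
def mkF (u0 u1 u2 u3 v0 v1 v2 : Nat) : Nat :=
  dig u0 u1 u2 v0 u3 (Pn u2) v1 (Pn u1) (Pn u3) (Pn u0) v2

/-- The check at a leaf. -/
noncomputable def leafOK (F : Nat) : Bool :=
  force (Core.inv 11 4 15 F) fun d =>
    ifB (Nat.beq (comp 11 4 15 d F) idc) <|
      orC (anyL (fun a => !(memN (comp 11 4 15 (comp 11 4 15 F a) d) L0)) sgens)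
        (orC (memN F L0) (memN (comp 11 4 15 F c36) L0))

/-- Excluded points in the moved part. -/
noncomputable def bad (l : List Nat) (u : Nat) : Bool := orC (Nat.beq (Pn u) u) (memN u l)

/-- Excluded points in the fixed part. -/
noncomputable def fx (l : List Nat) (u : Nat) : Bool := orC (neB (Pn u) u) (memN u l)

/-- The last loop. -/
noncomputable def lv6 (u0 u1 u2 u3 v0 v1 : Nat) : Bool :=
  allL (fun v2 => orC (fx [v0, v1] v2) (leafOK (mkF u0 u1 u2 u3 v0 v1 v2))) rng

/-- A loop. -/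
noncomputable def lv5 (u0 u1 u2 u3 v0 : Nat) : Bool :=
  allL (fun v1 => orC (fx [v0] v1) (lv6 u0 u1 u2 u3 v0 v1)) rng

/-- A loop. -/
noncomputable def lv4 (u0 u1 u2 u3 : Nat) : Bool :=
  allL (fun v0 => orC (fx [] v0) (lv5 u0 u1 u2 u3 v0)) rng

/-- A loop. -/
noncomputable def lv3 (u0 u1 u2 : Nat) : Bool :=
  allL (fun u3 => orC (bad [u0, Pn u0, u1, Pn u1, u2, Pn u2] u3) (lv4 u0 u1 u2 u3)) rng

/-- A loop. -/
noncomputable def lv2 (u0 u1 : Nat) : Bool :=
  allL (fun u2 => orC (bad [u0, Pn u0, u1, Pn u1] u2) (lv3 u0 u1 u2)) rng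

/-- A loop. -/
noncomputable def lv1 (u0 : Nat) : Bool :=
  allL (fun u1 => orC (bad [u0, Pn u0] u1) (lv2 u0 u1)) rng

/-- The first loop. -/
noncomputable def lv0 : Bool :=
  allL (fun u0 => orC (bad [] u0) (lv1 u0)) rng

theorem chk_lv0 : lv0 = true := by decide +kernel

theorem stepL {c f : Nat → Bool} (h : allL (fun u => orC (c u) (f u)) rng = true) {u : Nat} (hu : u < 11)
    (hc : c u = false) : f u = true := by
  have h1 := (allL_eq_true _ _).1 h u (mem_rng.2 hu)
  rw [orC_eq_true, hc] at h1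
  rcases h1 with h1 | h1
  · exact Bool.noConfusion h1
  · exact h1

theorem bad_false {l : List Nat} {u : Nat} (h1 : Pn u ≠ u) (h2 : u ∉ l) : bad l u = false := by
  rw [Bool.eq_false_iff]
  intro h
  rw [bad, orC_eq_true] at h
  rcases h with h | h
  · exact h1 (Nat.eq_of_beq_eq_true h)
  · exact h2 ((memN_eq_true _ _).1 h)

theorem fx_false {l : List Nat} {u : Nat} (h1 : Pn u = u) (h2 : u ∉ l) : fx l u = false := by
  rw [Bool.eq_false_iff]
  intro h
  rw [fx, orC_eq_true] at h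
  rcases h with h | h
  · exact neB_spec h h1
  · exact h2 ((memN_eq_true _ _).1 h)

theorem step0 {d r : Nat} (h : d < 16) : app 4 15 (d + 16 * r) 0 = d := by
  rw [app_eq hm4]
  norm_num
  omega

theorem stepS {d r : Nat} (h : d < 16) (i : Nat) : app 4 15 (d + 16 * r) (i + 1) = app 4 15 r i := by
  rw [app_eq hm4, app_eq hm4]
  have e1 : 2 ^ (4 * (i + 1)) = 16 * 2 ^ (4 * i) := by
    rw [Nat.mul_succ, pow_add]
    norm_num [mul_comm]
  have e2 : (d + 16 * r) / 16 = r := by omega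
  rw [e1, ← Nat.div_div_eq_div_mul, e2]

theorem step_end (r : Nat) (hr : r < 16) : app 4 15 r 0 = r := by
  have := step0 (d := r) (r := 0) hr
  simpa using this

theorem dig_app {d0 d1 d2 d3 d4 d5 d6 d7 d8 d9 d10 : Nat} (h0 : d0 < 16) (h1 : d1 < 16) (h2 : d2 < 16)
    (h3 : d3 < 16) (h4 : d4 < 16) (h5 : d5 < 16) (h6 : d6 < 16) (h7 : d7 < 16) (h8 : d8 < 16) (h9 : d9 < 16)
    (h10 : d10 < 16) : ∀ i : Fin 11, app 4 15 (dig d0 d1 d2 d3 d4 d5 d6 d7 d8 d9 d10) i =
      ![d0, d1, d2, d3, d4, d5, d6, d7, d8, d9, d10] i := by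
  intro i
  rw [dig]
  fin_cases i
  · exact step0 h0
  · exact (stepS h0 0).trans (step0 h1)
  · exact (stepS h0 1).trans ((stepS h1 0).trans (step0 h2))
  · exact (stepS h0 2).trans ((stepS h1 1).trans ((stepS h2 0).trans (step0 h3)))
  · exact (stepS h0 3).trans ((stepS h1 2).trans ((stepS h2 1).trans ((stepS h3 0).trans (step0 h4))))
  · exact (stepS h0 4).trans ((stepS h1 3).trans ((stepS h2 2).trans ((stepS h3 1).trans ((stepS h4 0).trans (step0 h5)))))
  · exact (stepS h0 5).trans ((stepS h1 4).trans ((stepS h2 3).trans ((stepS h3 2).trans ((stepS h4 1).trans ((stepS h5 0).trans (step0 h6))))))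
  · exact (stepS h0 6).trans ((stepS h1 5).trans ((stepS h2 4).trans ((stepS h3 3).trans ((stepS h4 2).trans ((stepS h5 1).trans ((stepS h6 0).trans (step0 h7)))))))
  · exact (stepS h0 7).trans ((stepS h1 6).trans ((stepS h2 5).trans ((stepS h3 4).trans ((stepS h4 3).trans ((stepS h5 2).trans ((stepS h6 1).trans ((stepS h7 0).trans (step0 h8))))))))
  · exact (stepS h0 8).trans ((stepS h1 7).trans ((stepS h2 6).trans ((stepS h3 5).trans ((stepS h4 4).trans ((stepS h5 3).trans ((stepS h6 2).trans ((stepS h7 1).trans ((stepS h8 0).trans (step0 h9)))))))))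
  · exact (stepS h0 9).trans ((stepS h1 8).trans ((stepS h2 7).trans ((stepS h3 6).trans ((stepS h4 5).trans ((stepS h5 4).trans ((stepS h6 3).trans ((stepS h7 2).trans ((stepS h8 1).trans ((stepS h9 0).trans (step_end d10 h10))))))))))

theorem rep_val {c : Nat} {g : QQ} (h : RR c g) (x : Fin 11) : ((g x : Fin 11) : Nat) = app 4 15 c x := by
  have := h x
  simp only [Equiv.refl_apply] at this
  exact this.symm

theorem chk_c36 : ∀ a : Fin 11, app 4 15 c36 a = Equiv.swap (3 : Fin 11) 6 a := by decide +kernel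

theorem Pn_lt {u : Nat} (hu : u < 11) : Pn u < 16 := by
  have := app_lt hm4 cz u
  simpa [Pn] using this

/-- The normaliser of the subgroup inside the centraliser of the involution. -/
theorem key (σ : QQ) (hc : σ * Pz = Pz * σ) (hn : ∀ A ∈ Sb, σ * A * σ⁻¹ ∈ Sb) :
    σ ∈ Sb ∨ σ * Equiv.swap (3 : Fin 11) 6 ∈ Sb := by
  have hPn : ∀ i : Fin 11, Pn (σ i) = σ (PzT i) := by
    intro i
    have h1 : Pn (σ i) = ((Pz (σ i) : Fin 11) : Nat) := (rep_val Pz_rep (σ i)).symm
    have h2 : Pz (σ i) = σ (Pz i) := by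
      have := DFunLike.congr_fun hc i
      simp only [Equiv.Perm.mul_apply] at this
      exact this.symm
    rw [h1, h2, Pz_eq]
  have hne : ∀ i j : Fin 11, i ≠ j → ((σ i : Fin 11) : Nat) ≠ ((σ j : Fin 11) : Nat) := by
    intro i j hij h
    exact hij (σ.injective (Fin.ext h))
  have hP : ∀ (i j : Fin 11), PzT i = j → Pn (σ i) = σ j := by
    intro i j h
    rw [hPn, h]
  have p0 : Pn (σ 0) = σ 9 := hP 0 9 (by decide)
  have p1 : Pn (σ 1) = σ 7 := hP 1 7 (by decide)
  have p2 : Pn (σ 2) = σ 5 := hP 2 5 (by decide)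
  have p4 : Pn (σ 4) = σ 8 := hP 4 8 (by decide)
  have p3 : Pn (σ 3) = σ 3 := hP 3 3 (by decide)
  have p6 : Pn (σ 6) = σ 6 := hP 6 6 (by decide)
  have p10 : Pn (σ 10) = σ 10 := hP 10 10 (by decide)
  have h1 : lv1 (σ 0) = true :=
    stepL (c := bad []) (f := lv1) chk_lv0 (σ 0).2 (bad_false (by rw [p0]; exact hne _ _ (by decide)) (by simp))
  have h2 : lv2 (σ 0) (σ 1) = true :=
    stepL (c := bad [σ 0, Pn (σ 0)]) (f := lv2 (σ 0)) h1 (σ 1).2
      (bad_false (by rw [p1]; exact hne _ _ (by decide)) (by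
        rw [p0]
        simp only [List.mem_cons, List.not_mem_nil, or_false, not_or]
        exact ⟨hne _ _ (by decide), hne _ _ (by decide)⟩))
  have h3 : lv3 (σ 0) (σ 1) (σ 2) = true :=
    stepL (c := bad [σ 0, Pn (σ 0), σ 1, Pn (σ 1)]) (f := lv3 (σ 0) (σ 1)) h2 (σ 2).2
      (bad_false (by rw [p2]; exact hne _ _ (by decide)) (by
        rw [p0, p1]
        simp only [List.mem_cons, List.not_mem_nil, or_false, not_or]
        exact ⟨hne _ _ (by decide), hne _ _ (by decide), hne _ _ (by decide), hne _ _ (by decide)⟩))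
  have h4 : lv4 (σ 0) (σ 1) (σ 2) (σ 4) = true :=
    stepL (c := bad [σ 0, Pn (σ 0), σ 1, Pn (σ 1), σ 2, Pn (σ 2)]) (f := lv4 (σ 0) (σ 1) (σ 2)) h3 (σ 4).2
      (bad_false (by rw [p4]; exact hne _ _ (by decide)) (by
        rw [p0, p1, p2]
        simp only [List.mem_cons, List.not_mem_nil, or_false, not_or]
        exact ⟨hne _ _ (by decide), hne _ _ (by decide), hne _ _ (by decide), hne _ _ (by decide),
          hne _ _ (by decide), hne _ _ (by decide)⟩))
  have h5 : lv5 (σ 0) (σ 1) (σ 2) (σ 4) (σ 3) = true :=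
    stepL (c := fx []) (f := lv5 (σ 0) (σ 1) (σ 2) (σ 4)) h4 (σ 3).2 (fx_false p3 (by simp))
  have h6 : lv6 (σ 0) (σ 1) (σ 2) (σ 4) (σ 3) (σ 6) = true :=
    stepL (c := fx [σ 3]) (f := lv6 (σ 0) (σ 1) (σ 2) (σ 4) (σ 3)) h5 (σ 6).2 (fx_false p6 (by
      simp only [List.mem_cons, List.not_mem_nil, or_false]
      exact hne _ _ (by decide)))
  have h7 : leafOK (mkF (σ 0) (σ 1) (σ 2) (σ 4) (σ 3) (σ 6) (σ 10)) = true :=
    stepL (c := fx [σ 3, σ 6]) (f := fun v2 => leafOK (mkF (σ 0) (σ 1) (σ 2) (σ 4) (σ 3) (σ 6) v2)) h6 (σ 10).2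
      (fx_false p10 (by
        simp only [List.mem_cons, List.not_mem_nil, or_false, not_or]
        exact ⟨hne _ _ (by decide), hne _ _ (by decide)⟩))
  have hlt : ∀ i : Fin 11, ((σ i : Fin 11) : Nat) < 16 := fun i => lt_trans (σ i).2 (by norm_num)
  have hF : RR (mkF (σ 0) (σ 1) (σ 2) (σ 4) (σ 3) (σ 6) (σ 10)) σ := by
    intro i
    have h := dig_app (hlt 0) (hlt 1) (hlt 2) (hlt 3) (hlt 4) (Pn_lt (σ 2).2) (hlt 6) (Pn_lt (σ 1).2)
      (Pn_lt (σ 4).2) (Pn_lt (σ 0).2) (hlt 10) i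
    rw [p2, p1, p4, p0] at h
    show app 4 15 (dig _ _ _ _ _ _ _ _ _ _ _) (i : Nat) = (σ i : Nat)
    rw [p2, p1, p4, p0, h]
    fin_cases i <;> rfl
  set F := mkF (σ 0) (σ 1) (σ 2) (σ 4) (σ 3) (σ 6) (σ 10) with hFdef
  simp only [leafOK, force_eq, ifB_eq_true] at h7
  obtain ⟨hd, hor⟩ := h7
  have hinv : RR (Core.inv 11 4 15 F) σ⁻¹ := Rep.inv hm4 hid4 hF (Nat.eq_of_beq_eq_true hd)
  rw [orC_eq_true, orC_eq_true] at hor
  rcases hor with h | h | h
  · exfalso
    obtain ⟨a, ha, h8⟩ := (anyL_eq_true _ _).1 h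
    obtain ⟨A, hA, hr⟩ := gens_Sb a ha
    have hr2 := (hF.comp hm4 hr).comp hm4 hinv
    obtain ⟨c, hcL, hrc⟩ := L2 _ (hn A hA)
    have hclt : c < 2 ^ (11 * 4) := by
      have := (allL_eq_true _ _).1 chk_lt c hcL
      simpa using this
    have e : comp 11 4 15 (comp 11 4 15 F a) (Core.inv 11 4 15 F) = c :=
      eq_of_digits hm4 11 _ _ (comp_lt hm4 _ _ _) hclt (fun i hi => app_eq_of_rep hr2 hrc hi)
    rw [e, (memN_eq_true _ _).2 hcL] at h8
    exact Bool.noConfusion h8
  · left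
    obtain ⟨g, hg, hr⟩ := L1 F ((memN_eq_true _ _).1 h)
    rw [hF.unique hr]
    exact hg
  · right
    obtain ⟨g, hg, hr⟩ := L1 _ ((memN_eq_true _ _).1 h)
    have h9 : RR c36 (Equiv.swap (3 : Fin 11) 6) := fun a => chk_c36 a
    rw [(hF.comp hm4 h9).unique hr]
    exact hg

theorem W3_mem_conj : (0xa1406283597, W3) ∈ conjW := by decide +kernel

theorem W3_gen : (∀ j ∈ W3, j < 9) ∧ pw W3 * Pz * (pw W3)⁻¹ ∈ Sb := by
  have h := (ifB_eq_true _ _).1 ((allL_eq_true _ _).1 chk_conj _ W3_mem_conj)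
  obtain ⟨h1, hr⟩ := cj_rep h.1 Pz_rep
  rw [Nat.eq_of_beq_eq_true h.2] at hr
  refine ⟨h1, H_of_rep ?_ hr⟩
  rw [chk_sg]
  exact List.mem_map_of_mem W3_mem_conj

end Cfsg.Agent.Lib.DCE.Ly.Fus.Data
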