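import Cfsg.Agent.Lib.DCE.Ly.Out.Main
import Cfsg.Agent.Lib.DCE.Ly.Fus.Data
import Cfsg.Agent.Lib.DCE.Ly.Fus.Mat
import Cfsg.Agent.Lib.FusionSimple2.Abstract

/-! The `2`-fusion system of the Lyons group is simple. -/

set_option autoImplicit false
set_option maxRecDepth 100000
set_option maxHeartbeats 2000000

namespace Cfsg.Agent.Lib.DCE.Ly.Fus.Main

open Cfsg Cfsg.Agent.Lib.TC.Core Cfsg.Agent.Lib.TC.Enc Cfsg.Agent.Lib.TC.Pres Cfsg.Agent.Lib.DCE.MatP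
  Cfsg.Agent.Lib.DCE.Ly.Exp Cfsg.Agent.Lib.DCE.Ly.Setup Cfsg.Agent.Lib.DCE.Ly.Model.Let Cfsg.Agent.Lib.DCE.Ly.Model.Rho
  Cfsg.Agent.Lib.DCE.Ly.Final Cfsg.Agent.Lib.DCE.Ly.Inv.MxT Cfsg.Agent.Lib.DCE.Ly.Inv.MxD
  Cfsg.Agent.Lib.DCE.Ly.Inv.MxG Cfsg.Agent.Lib.DCE.Ly.Inv.Count
  Cfsg.Agent.Lib.DCE.Ly.Out.Dat Cfsg.Agent.Lib.DCE.Ly.Out.Chk Cfsg.Agent.Lib.DCE.Ly.Out.Expl
  Cfsg.Agent.Lib.DCE.Ly.Out.Abs Cfsg.Agent.Lib.DCE.Ly.Out.Main
  Cfsg.Agent.Lib.FusionSimple2.Abstract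

open Cfsg.Agent.Lib.DCE.Ly.Fus.Data (Sb Pz pw sgens Z_S Pz_comm Pz_mem Pz_ne key sgens_conj W3 W3e W3ie wTe W3_gen)

open _root_.Cfsg.Agent.Lib.PermComp.Core (Rep)

local notation "CC" => Subgroup.centralizer (Singleton.singleton tt : Set Γ)
local notation "QQ" => Equiv.Perm (Fin 11)
local notation "RR" => Rep 4 15 (Equiv.refl (Fin 11))

/-- The abstract statement. -/
theorem simple_of_equiv' {G Γ' : Type*} [Group G] [Finite G] [Group Γ'] (S₁ : Subgroup Γ') {k m : ℕ}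
    (hcard : Nat.card S₁ = 2 ^ k) (hM : Nat.card Γ' = 2 ^ k * m) (hm : Odd m) (hne : S₁ ≠ ⊥)
    (hN : ∀ g : Γ', (∀ s ∈ S₁, g * s * g⁻¹ ∈ S₁) → g ∈ S₁)
    (hT : ∀ T : Subgroup Γ', T ≤ S₁ → T ≠ ⊥ → (∀ x ∈ T, ∀ g : Γ', g * x * g⁻¹ ∈ S₁ → g * x * g⁻¹ ∈ T) → T = S₁)
    (e : G ≃* Γ') (S : Sylow 2 G) : (groupFusionSystem (S : Subgroup G)).IsSimple 2 := by
  have hfac : (Nat.card G).factorization 2 = k := by
    have hm0 : m ≠ 0 := by
      rintro rfl
      simp at hm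
    rw [Nat.card_congr e.toEquiv, hM, Nat.factorization_mul (by positivity) hm0,
      Nat.Prime.factorization_pow Nat.prime_two]
    have : m.factorization 2 = 0 := Nat.factorization_eq_zero_of_not_dvd (by
      intro h
      exact (Nat.not_even_iff_odd.2 hm) (even_iff_two_dvd.2 h))
    simp [this]
  let ι : G →* Γ' := e.toMonoidHom
  have hι : Function.Injective ι := e.injective
  have hs : ∀ m, ∃ x, ι x = m := e.surjective
  let U : Subgroup G := S₁.comap ι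
  have hmap : U.map ι = S₁ := by
    ext x
    constructor
    · rintro ⟨y, hy, rfl⟩
      exact hy
    · intro hx
      obtain ⟨y, rfl⟩ := hs x
      exact ⟨y, hx, rfl⟩
  have hU : Nat.card U = 2 ^ (Nat.card G).factorization 2 := by
    rw [hfac, ← hcard, ← hmap, Subgroup.card_map_of_injective hι]
  let P : Sylow 2 G := Sylow.ofCard U hU
  have memP : ∀ x, x ∈ (P : Subgroup G) ↔ ι x ∈ S₁ := by
    intro x
    rw [Sylow.coe_ofCard, Subgroup.mem_comap]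
  have hcon : ∀ g x : G, ι (g * x * g⁻¹) = ι g * ι x * (ι g)⁻¹ := by
    intro g x
    simp
  refine Cfsg.Agent.Lib.FusionSimple.Basic.simple_of_one_sylow P ?_ ?_ ?_ S
  · intro h
    apply hne
    rw [eq_bot_iff]
    intro x hx
    obtain ⟨y, rfl⟩ := hs x
    have h1 : y ∈ (P : Subgroup G) := (memP y).2 hx
    rw [h, Subgroup.mem_bot] at h1
    rw [h1, map_one, Subgroup.mem_bot]
  · intro g hg
    rw [memP]
    apply hN _
    intro s hs'
    obtain ⟨y, rfl⟩ := hs s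
    rw [← hcon, ← memP]
    exact hg y ((memP y).2 hs')
  · intro T hTP hT1 hcl
    have hT' := hT (T.map ι) ?_ ?_ ?_
    · ext x
      constructor
      · exact fun hx => hTP hx
      · intro hx
        have h1 : ι x ∈ T.map ι := by
          rw [hT']
          exact (memP x).1 hx
        obtain ⟨y, hy, hyx⟩ := h1
        rwa [← hι hyx]
    · rintro _ ⟨y, hy, rfl⟩
      exact (memP y).1 (hTP hy)
    · intro h
      apply hT1
      rw [eq_bot_iff]
      intro y hy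
      have h1 : ι y ∈ T.map ι := ⟨y, hy, rfl⟩
      rw [h, Subgroup.mem_bot] at h1
      rw [Subgroup.mem_bot]
      exact hι (h1.trans (map_one ι).symm)
    · rintro _ ⟨y, hy, rfl⟩ g hgy
      obtain ⟨h, rfl⟩ := hs g
      rw [← hcon] at hgy ⊢
      exact ⟨_, hcl y hy h ((memP _).2 hgy), rfl⟩

/-- Products of the generators. -/
noncomputable def pwx (l : List ℕ) : Γ := (l.map x).prod

theorem pwx_mem (l : List ℕ) : pwx l ∈ CC := Subgroup.list_prod_mem _ (by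
  intro y hy
  obtain ⟨k, _, rfl⟩ := List.mem_map.1 hy
  exact xmem k)

theorem htpw : tp = pwx wT := by
  apply rho_inj
  apply Units.ext
  rw [v5, pwx, map_x wT wT_lt]
  exact (rho_chk c_Tp).symm

theorem tp_mem : tp ∈ CC := mem_C.2 htt.symm

theorem tt_C : tt ∈ CC := mem_C.2 rfl

/-- A conjugate of the second involution. -/
noncomputable def sw (l : List ℕ) : Γ := pwx l * tp * (pwx l)⁻¹

theorem sw_mem (l : List ℕ) : sw l ∈ CC :=
  mul_mem (mul_mem (pwx_mem l) tp_mem) (inv_mem (pwx_mem l))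

theorem sw_conj (l : List ℕ) : sw l = (pwx l * eX) * tt * (pwx l * eX)⁻¹ := by
  have h : eX⁻¹ = eX := inv_eq_of_mul_eq_one_left hxx
  rw [sw, tp, mul_inv_rev, h]
  group

theorem W3_lt : ∀ j ∈ W3, j < 9 := by decide +kernel

theorem W3e_eq : W3e = W3.map j2e := by decide +kernel

theorem a0 : (rho tp).val = Mat.ls 0 := v5

theorem a3 : (rho tt).val = Mat.ls 3 := v3

theorem a1 : (rho (pwx W3)).val = Mat.ls 1 := by
  rw [pwx, map_x W3 W3_lt, ← W3e_eq]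
  exact rho_chk Mat.c_q

theorem a2 : (rho (pwx W3)⁻¹).val = Mat.ls 2 := by
  have h := Mat.eqS_spec Mat.e_qqi
  simp only [List.map_cons, List.map_nil, List.prod_cons, List.prod_nil, mul_one] at h
  rw [map_inv]
  exact Units.inv_eq_of_mul_eq_one_right (by rw [a1]; exact h)

theorem anti : tp * sw W3 = sw W3 * tp * tt := by
  apply rho_inj
  apply Units.ext
  have h := Mat.eqS_spec Mat.e_anti
  simp only [List.map_cons, List.map_nil, List.prod_cons, List.prod_nil, mul_one] at h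
  rw [sw]
  simp only [map_mul, Units.val_mul]
  rw [a0, a1, a2, a3]
  simp only [mul_assoc] at h ⊢
  exact h

section

variable (π : CC →* alternatingGroup (Fin 11))

/-- The map to permutations. -/
noncomputable def pq : CC →* QQ := (alternatingGroup (Fin 11)).subtype.comp π

theorem pq_apply (c : CC) : pq π c = ((π c : alternatingGroup (Fin 11)) : QQ) := rfl

/-- The Sylow subgroup. -/
noncomputable def S1 : Subgroup Γ := (Sb.comap (pq π)).map (CC).subtype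

theorem mem_S1 {y : Γ} : y ∈ S1 π ↔ ∃ h : y ∈ CC, pq π ⟨y, h⟩ ∈ Sb := by
  constructor
  · rintro ⟨c, hc, rfl⟩
    exact ⟨c.2, hc⟩
  · rintro ⟨h, hy⟩
    exact ⟨⟨y, h⟩, hy, rfl⟩

variable {π} (hC : Cov tt π)
  (hπ : ∀ (j : ℕ) (hj : j < 9) (h : x j ∈ CC), ((π ⟨x j, h⟩ : alternatingGroup (Fin 11)) : QQ) = pp j)

include hC in
theorem pq_ker (c : CC) : pq π c = 1 ↔ (c : Γ) = 1 ∨ (c : Γ) = tt := by
  rw [← hC.ker c]
  constructor
  · intro h
    exact Subtype.ext h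
  · intro h
    rw [pq_apply, h]
    rfl

include hC in
theorem eq_of_pq {a b : CC} (h : pq π a = pq π b) : (a : Γ) = b ∨ (a : Γ) = b * tt := by
  have h1 : pq π (b⁻¹ * a) = 1 := by
    rw [map_mul, map_inv, h, inv_mul_cancel]
  rcases (pq_ker hC _).1 h1 with h2 | h2
  · left
    have h3 : (b : Γ)⁻¹ * a = 1 := h2
    exact (inv_mul_eq_one.1 h3).symm
  · right
    have h3 : (b : Γ)⁻¹ * a = tt := h2
    exact inv_mul_eq_iff_eq_mul.1 h3

include hπ in
theorem pq_pwx (l : List ℕ) (hl : ∀ j ∈ l, j < 9) : pq π ⟨pwx l, pwx_mem l⟩ = pw l :=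
  pi_list π hπ l hl (pwx_mem l)

include hπ in
theorem pq_tp : pq π ⟨tp, tp_mem⟩ = Pz := by
  have e : (⟨tp, tp_mem⟩ : CC) = ⟨pwx wT, pwx_mem wT⟩ := Subtype.ext htpw
  rw [e]
  exact pq_pwx hπ wT wT_lt

include hπ in
theorem pq_sw (l : List ℕ) (hl : ∀ j ∈ l, j < 9) : pq π ⟨sw l, sw_mem l⟩ = pw l * Pz * (pw l)⁻¹ := by
  have e : (⟨sw l, sw_mem l⟩ : CC) = ⟨pwx l, pwx_mem l⟩ * ⟨tp, tp_mem⟩ * ⟨pwx l, pwx_mem l⟩⁻¹ := Subtype.ext rfl
  rw [e, map_mul, map_mul, map_inv, pq_pwx hπ l hl, pq_tp hπ]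

theorem gen_eq {A : QQ} (hA : ∃ c ∈ sgens, RR c A) : ∃ l : List ℕ, (∀ j ∈ l, j < 9) ∧ A = pw l * Pz * (pw l)⁻¹ := by
  obtain ⟨c, hc, hr⟩ := hA
  obtain ⟨l, hl, hr2⟩ := sgens_conj hc
  exact ⟨l, hl, hr.unique hr2⟩

include hπ in
theorem Sb_le_range : Sb ≤ (pq π).range := by
  apply (Subgroup.closure_le _).2
  intro A hA
  obtain ⟨l, hl, rfl⟩ := gen_eq hA
  exact ⟨⟨sw l, sw_mem l⟩, pq_sw hπ l hl⟩

include hπ in
theorem lift {A : QQ} (hA : A ∈ Sb) : ∃ y : Γ, ∃ h : y ∈ CC, pq π ⟨y, h⟩ = A ∧ y ∈ S1 π := by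
  obtain ⟨c, rfl⟩ := Sb_le_range hπ hA
  exact ⟨c, c.2, rfl, (mem_S1 π).2 ⟨c.2, hA⟩⟩

include hC in
theorem tt_mem_S1 : tt ∈ S1 π := by
  refine (mem_S1 π).2 ⟨tt_C, ?_⟩
  rw [(pq_ker hC _).2 (Or.inr rfl)]
  exact one_mem _

include hC hπ in
/-- The central elements of the subgroup. -/
theorem Zc {z : Γ} (hz : z ∈ S1 π) (hc : ∀ y ∈ S1 π, z * y = y * z) : z = 1 ∨ z = tt := by
  obtain ⟨h, hzS⟩ := (mem_S1 π).1 hz
  have hcom : ∀ A ∈ Sb, pq π ⟨z, h⟩ * A = A * pq π ⟨z, h⟩ := by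
    intro A hA
    obtain ⟨y, hy, rfl, hyS⟩ := lift hπ hA
    rw [← map_mul, ← map_mul]
    congr 1
    exact Subtype.ext (hc y hyS)
  rcases Z_S hzS hcom with h1 | h1
  · exact (pq_ker hC _).1 h1
  · exfalso
    have h2 := eq_of_pq hC (a := ⟨z, h⟩) (b := ⟨tp, tp_mem⟩) (h1.trans (pq_tp hπ).symm)
    have hs : sw W3 ∈ S1 π := (mem_S1 π).2 ⟨sw_mem W3, by
      rw [pq_sw hπ W3 W3_gen.1]
      exact W3_gen.2⟩
    have h3 := hc _ hs
    have h4 := anti
    have h5 : tp * sw W3 = sw W3 * tp := by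
      rcases h2 with h2 | h2
      · have h2' : z = tp := h2
        rwa [h2'] at h3
      · have h2' : z = tp * tt := h2
        rw [h2'] at h3
        have h6 : sw W3 * tt = tt * sw W3 := mem_C.1 (sw_mem W3)
        apply mul_right_cancel (b := tt)
        calc tp * sw W3 * tt = tp * (sw W3 * tt) := by group
          _ = tp * (tt * sw W3) := by rw [h6]
          _ = tp * tt * sw W3 := by group
          _ = sw W3 * (tp * tt) := h3
          _ = sw W3 * tp * tt := by group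
    rw [h5] at h4
    apply tt_ne
    exact (mul_eq_left.1 h4.symm)

include hC hπ in
theorem card_S1 : Nat.card (S1 π) = 2 ^ 8 := by
  have h1 : Nat.card (S1 π) = Nat.card (Sb.comap (pq π)) :=
    Subgroup.card_map_of_injective Subtype.coe_injective
  rw [h1]
  let f := (pq π).subgroupComap Sb
  have hf : Function.Surjective f := by
    rintro ⟨A, hA⟩
    obtain ⟨c, rfl⟩ := Sb_le_range hπ hA
    exact ⟨⟨c, hA⟩, rfl⟩
  have h2 : Nat.card (Sb.comap (pq π)) = Nat.card Sb * Nat.card f.ker := by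
    rw [Subgroup.card_eq_card_quotient_mul_card_subgroup f.ker,
      Nat.card_congr (QuotientGroup.quotientKerEquivOfSurjective f hf).toEquiv]
  have hker : Nat.card f.ker = 2 := by
    have ht1 : (⟨tt, tt_C⟩ : CC) ∈ Sb.comap (pq π) := by
      rw [Subgroup.mem_comap, (pq_ker hC _).2 (Or.inr rfl)]
      exact one_mem _
    have ht2 : (⟨⟨tt, tt_C⟩, ht1⟩ : Sb.comap (pq π)) ∈ f.ker := by
      rw [MonoidHom.mem_ker]
      apply Subtype.ext
      exact (pq_ker hC _).2 (Or.inr rfl)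
    rw [Nat.card_eq_two_iff]
    refine ⟨1, ⟨⟨⟨tt, tt_C⟩, ht1⟩, ht2⟩, ?_, ?_⟩
    · intro h
      have h3 := congrArg (fun y : f.ker => ((y : Sb.comap (pq π)) : CC).1) h
      exact tt_ne h3.symm
    · apply Set.eq_univ_of_forall
      rintro ⟨⟨⟨y, hy⟩, hy2⟩, hy3⟩
      rw [MonoidHom.mem_ker] at hy3
      have h4 : pq π ⟨y, hy⟩ = 1 := congrArg Subtype.val hy3
      rcases (pq_ker hC _).1 h4 with h5 | h5
      · left
        apply Subtype.ext
        apply Subtype.ext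
        exact Subtype.ext h5
      · right
        apply Subtype.ext
        apply Subtype.ext
        exact Subtype.ext h5
  rw [h2, hker, Cfsg.Agent.Lib.DCE.Ly.Fus.Data.card_Sb]
  norm_num

include hC hπ in
/-- The strong closure. -/
theorem closed_S1 (T : Subgroup Γ) (hle : T ≤ S1 π) (hne : T ≠ ⊥)
    (hcl : ∀ x ∈ T, ∀ g : Γ, g * x * g⁻¹ ∈ S1 π → g * x * g⁻¹ ∈ T) : T = S1 π := by
  haveI : Finite Γ := finiteG
  have ht : tt ∈ T := by
    haveI : Fact (Nat.Prime 2) := ⟨Nat.prime_two⟩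
    have hpg : IsPGroup 2 (S1 π) := IsPGroup.of_card (card_S1 hC hπ)
    haveI : Group.IsNilpotent (S1 π) := hpg.isNilpotent
    let N : Subgroup (S1 π) := T.subgroupOf (S1 π)
    have hNn : N.Normal := by
      constructor
      intro y hy r
      rw [Subgroup.mem_subgroupOf] at hy ⊢
      exact hcl _ hy _ ((S1 π).mul_mem ((S1 π).mul_mem r.2 (hle hy)) ((S1 π).inv_mem r.2))
    have hNne : N ≠ ⊥ := by
      intro h
      apply hne
      rw [eq_bot_iff]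
      intro y hy
      have h1 : (⟨y, hle hy⟩ : S1 π) ∈ N := by
        rw [Subgroup.mem_subgroupOf]
        exact hy
      rw [h, Subgroup.mem_bot] at h1
      rw [Subgroup.mem_bot]
      exact congrArg Subtype.val h1
    have hZ := Cfsg.Agent.Lib.SolvStruct.Fit.inf_center_ne_bot N hNne
    rw [Ne, Subgroup.eq_bot_iff_forall] at hZ
    push Not at hZ
    obtain ⟨y, ⟨hyN, hyc⟩, hy1⟩ := hZ
    have hyT : (y : Γ) ∈ T := hyN
    have hcomm : ∀ z ∈ S1 π, (y : Γ) * z = z * y := by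
      intro z hz
      have := (Subgroup.mem_center_iff.1 hyc) ⟨z, hz⟩
      exact (congrArg Subtype.val this).symm
    rcases Zc hC hπ y.2 hcomm with h | h
    · exact absurd (Subtype.ext h) hy1
    · rwa [h] at hyT
  apply le_antisymm hle
  have hgen : Sb ≤ (T.comap (CC).subtype).map (pq π) := by
    apply (Subgroup.closure_le _).2
    intro A hA
    have hS : A ∈ Sb := Subgroup.subset_closure hA
    obtain ⟨l, hl, rfl⟩ := gen_eq hA
    have hsS : sw l ∈ S1 π := (mem_S1 π).2 ⟨sw_mem l, by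
      rw [pq_sw hπ l hl]
      exact hS⟩
    have hsT : sw l ∈ T := by
      rw [sw_conj] at hsS ⊢
      exact hcl tt ht _ hsS
    exact ⟨⟨sw l, sw_mem l⟩, hsT, pq_sw hπ l hl⟩
  intro y hy
  obtain ⟨h, hyS⟩ := (mem_S1 π).1 hy
  obtain ⟨c, hc, hce⟩ := hgen hyS
  have hcT : (c : Γ) ∈ T := hc
  rcases eq_of_pq hC (a := ⟨y, h⟩) (b := c) hce.symm with h1 | h1
  · have h2 : y = c := h1
    rwa [h2]
  · have h2 : y = c * tt := h1
    rw [h2]
    exact T.mul_mem hcT ht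

include hC hπ in
/-- The subgroup is self-normalizing. -/
theorem norm_S1 (g : Γ) (hg : ∀ s ∈ S1 π, g * s * g⁻¹ ∈ S1 π) : g ∈ S1 π := by
  haveI : Finite Γ := finiteG
  have hg' : ∀ s ∈ S1 π, g⁻¹ * s * g⁻¹⁻¹ ∈ S1 π := conj_inv_mem hg
  have htS := tt_mem_S1 hC
  have hz := hg _ htS
  have hcent : ∀ y ∈ S1 π, (g * tt * g⁻¹) * y = y * (g * tt * g⁻¹) := by
    intro y hy
    have h1 := hg' y hy
    obtain ⟨h2, -⟩ := (mem_S1 π).1 h1
    have h3 : (g⁻¹ * y * g⁻¹⁻¹) * tt = tt * (g⁻¹ * y * g⁻¹⁻¹) := mem_C.1 h2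
    calc g * tt * g⁻¹ * y = g * (tt * (g⁻¹ * y * g⁻¹⁻¹)) * g⁻¹ := by group
      _ = g * ((g⁻¹ * y * g⁻¹⁻¹) * tt) * g⁻¹ := by rw [h3]
      _ = y * (g * tt * g⁻¹) := by group
  have hgt : g * tt * g⁻¹ = tt := by
    rcases Zc hC hπ hz hcent with h | h
    · exfalso
      apply tt_ne
      have h1 : tt = g⁻¹ * (g * tt * g⁻¹) * g := by group
      rw [h1, h]
      group
    · exact h
  have hgC : g ∈ CC := mem_C.2 (mul_inv_eq_iff_eq_mul.1 hgt)
  have hconj : ∀ A ∈ Sb, pq π ⟨g, hgC⟩ * A * (pq π ⟨g, hgC⟩)⁻¹ ∈ Sb := by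
    intro A hA
    obtain ⟨y, hy, rfl, hyS⟩ := lift hπ hA
    obtain ⟨h2, h3⟩ := (mem_S1 π).1 (hg y hyS)
    have e : pq π ⟨g * y * g⁻¹, h2⟩ = pq π ⟨g, hgC⟩ * pq π ⟨y, hy⟩ * (pq π ⟨g, hgC⟩)⁻¹ := by
      rw [← map_inv, ← map_mul, ← map_mul]
      rfl
    rwa [← e]
  have hconj' : ∀ A ∈ Sb, (pq π ⟨g, hgC⟩)⁻¹ * A * pq π ⟨g, hgC⟩ ∈ Sb := by
    intro A hA
    obtain ⟨y, hy, rfl, hyS⟩ := lift hπ hA
    obtain ⟨h2, h3⟩ := (mem_S1 π).1 (hg' y hyS)
    have e : pq π ⟨g⁻¹ * y * g⁻¹⁻¹, h2⟩ = (pq π ⟨g, hgC⟩)⁻¹ * pq π ⟨y, hy⟩ * pq π ⟨g, hgC⟩ := by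
      rw [← map_inv, ← map_mul, ← map_mul]
      apply congrArg
      apply Subtype.ext
      simp
    rwa [← e]
  generalize hσ : pq π ⟨g, hgC⟩ = σ at hconj hconj'
  have hcomm : σ * Pz = Pz * σ := by
    have hρ := hconj Pz Pz_mem
    have hρc : ∀ A ∈ Sb, (σ * Pz * σ⁻¹) * A = A * (σ * Pz * σ⁻¹) := by
      intro A hA
      have h1 := Pz_comm _ (hconj' A hA)
      calc σ * Pz * σ⁻¹ * A = σ * (Pz * (σ⁻¹ * A * σ)) * σ⁻¹ := by group
        _ = σ * ((σ⁻¹ * A * σ) * Pz) * σ⁻¹ := by rw [h1]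
        _ = A * (σ * Pz * σ⁻¹) := by group
    rcases Z_S hρ hρc with h | h
    · exfalso
      apply Pz_ne
      have h1 : Pz = σ⁻¹ * (σ * Pz * σ⁻¹) * σ := by group
      rw [h1, h]
      group
    · exact mul_inv_eq_iff_eq_mul.1 h
  rcases key σ hcomm hconj with h | h
  · refine (mem_S1 π).2 ⟨hgC, ?_⟩
    rw [hσ]
    exact h
  · exfalso
    have hA : ∀ A ∈ Sb, A ∈ alternatingGroup (Fin 11) := by
      intro A hA
      obtain ⟨c, rfl⟩ := Sb_le_range hπ hA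
      exact (π c).2
    have h1 := hA _ h
    have h2 : σ ∈ alternatingGroup (Fin 11) := by
      rw [← hσ]
      exact (π _).2
    have h3 : Equiv.swap (3 : Fin 11) 6 ∈ alternatingGroup (Fin 11) := by
      have := (alternatingGroup (Fin 11)).mul_mem ((alternatingGroup (Fin 11)).inv_mem h2) h1
      simpa using this
    rw [Equiv.Perm.mem_alternatingGroup, Equiv.Perm.sign_swap (by decide)] at h3
    exact absurd h3 (by decide)

end

/-- The `2`-fusion system of the Lyons group is simple. -/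
theorem main {G : Type*} [Group G] [Finite G] (e : G ≃* Γ) (S : Sylow 2 G) :
    (groupFusionSystem (S : Subgroup G)).IsSimple 2 := by
  obtain ⟨π, hC, hπ⟩ := exists_pi data card_C_le
  have hπ' : ∀ (j : ℕ) (hj : j < 9) (h : x j ∈ CC), ((π ⟨x j, h⟩ : alternatingGroup (Fin 11)) : QQ) = pp j := hπ
  refine simple_of_equiv' (S1 π) (k := 8) (m := 202207730484375) (card_S1 hC hπ') (by rw [card_G]; norm_num) ?_ ?_
    (norm_S1 hC hπ') (closed_S1 hC hπ') e S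
  · exact ⟨101103865242187, by norm_num⟩
  · intro h
    have h1 := tt_mem_S1 hC
    rw [h, Subgroup.mem_bot] at h1
    exact tt_ne h1

end Cfsg.Agent.Lib.DCE.Ly.Fus.Main
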